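import Cfsg.Agent.H204.S8.NumOf
import Cfsg.Agent.H954.DR.CentB
import Cfsg.Agent.H642.MonoB

/-!
# The degrees of the Baby Monster (helper204, for S4908)
-/

set_option autoImplicit false

namespace Cfsg.Agent.H204.S8

open Cfsg Subgroup
open Cfsg.Agent.H450.S8 (Num okDeg)

universe v

theorem num_b {X : Type v} [Group X] [Finite X] [IsSimpleGroup X] (h : Spor.IsoB X) :
    Num (charDegrees X) 4154781481226426191177580544000000 (okDeg 4371 [(47, 23)]) := by
  have hN : Nat.card X = 4154781481226426191177580544000000 := NotCT.Orders.b h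
  have : Fact (Nat.Prime 47) := ⟨by norm_num⟩
  obtain ⟨x, hx⟩ := exists_prime_orderOf_dvd_card' (G := X) 47 (by rw [hN]; norm_num)
  have hG : ¬ IsMulCommutative X := H133.Ore.not_comm_of (by rw [hN]; norm_num)
  have hmin : H511.Ore.MinDeg X 4371 := by
    obtain ⟨e⟩ := h
    exact fun χ hχ => (H642.Mono.minDeg_b.congr e.symm).le χ χ.2 hχ
  exact num_of hG (by norm_num) hN hmin hx (H954.DR.CentB.cent47 h hx) 23 2 (by decide +kernel)

end Cfsg.Agent.H204.S8
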