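import Cfsg.Agent.H204.S8.NumOf
import Cfsg.Agent.H133.Ore.DegCo1

/-!
# The degrees of `Co₁` (helper204, for S4908)
-/

set_option autoImplicit false

namespace Cfsg.Agent.H204.S8

open Cfsg Subgroup
open Cfsg.Agent.H450.S8 (Num okDeg)

universe v

theorem num_co1_model : Num (charDegrees Spor.Co1) 4157776806543360000 (okDeg 276 [(23, 11)]) := by
  have hN : Nat.card Spor.Co1 = 4157776806543360000 := Cfsg.Agent.S0399.result.2
  have hfin : Finite Spor.Co1 := Nat.finite_of_card_ne_zero (by rw [hN]; norm_num)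
  have hsim : IsSimpleGroup Spor.Co1 := Cfsg.Agent.S0399.result.1
  have : Fact (Nat.Prime 23) := ⟨by norm_num⟩
  obtain ⟨x, hx⟩ := exists_prime_orderOf_dvd_card' (G := Spor.Co1) 23 (by rw [hN]; norm_num)
  have hG : ¬ IsMulCommutative Spor.Co1 := H133.Ore.not_comm_of (by rw [hN]; norm_num)
  exact num_of hG (by norm_num) hN H133.Ore.Co1.minDeg hx (Cfsg.Agent.H208.DS.cent_co1 ⟨MulEquiv.refl _⟩ hx) 11 2
    (by decide +kernel)

theorem num_co1 {X : Type v} [Group X] (h : Spor.IsoCo1 X) :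
    Num (charDegrees X) 4157776806543360000 (okDeg 276 [(23, 11)]) := by
  obtain ⟨e⟩ := h
  exact num_congr e num_co1_model

end Cfsg.Agent.H204.S8
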