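import Cfsg.Agent.H204.S8.NumOf
import Cfsg.Agent.H29.RowJ2
import Cfsg.Agent.H635.CJ.JTwo

/-!
# The degrees of `J₂` (helper204, for S4908)
-/

set_option autoImplicit false

namespace Cfsg.Agent.H204.S8

open Cfsg Subgroup
open Cfsg.Agent.H450.S8 (Num okDeg)
open Cfsg.Agent.J2.HundredGens Cfsg.Agent.J2Sylow.SporSylow

universe v

theorem num_j2_model : Num (charDegrees H29.RowJ2.X) 604800 (okDeg 9 [(7, 6)]) := by
  have hN := H29.RowJ2.card_X
  have hsim := H29.RowJ2.simple_X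
  have hfin : Finite H29.RowJ2.X := Nat.finite_of_card_ne_zero (by rw [hN]; norm_num)
  obtain ⟨x, hx, hc⟩ := H29.RowJ2.cent_seven
  have hG : ¬ IsMulCommutative H29.RowJ2.X := H133.Ore.not_comm_of (by rw [hN]; norm_num)
  obtain ⟨e⟩ := J2_iso card_J2
  exact num_of hG (by norm_num) hN (H133.Ore.minDeg_of_rep hG (H635.CJ.JTwo.minDeg ⟨e.symm⟩)) hx hc 6 1
    (by decide +kernel)

theorem num_j2 {X : Type v} [Group X] (h : Spor.IsoJ2 X) : Num (charDegrees X) 604800 (okDeg 9 [(7, 6)]) := by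
  obtain ⟨f⟩ := h
  obtain ⟨e⟩ := J2_iso card_J2
  exact num_congr (f.trans e) num_j2_model

end Cfsg.Agent.H204.S8
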