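import Cfsg.Agent.H204.S8.NumOf
import Cfsg.Agent.H58.TC.RowM
import Cfsg.Agent.H642.MonoM

/-!
# The degrees of the Monster (helper204, for S4908)
-/

set_option autoImplicit false

namespace Cfsg.Agent.H204.S8

open Cfsg Subgroup
open Cfsg.Agent.H450.S8 (Num okDeg)
open Cfsg.Agent.BpSpor.MBigModel

universe v

theorem num_m_model (L : H455.OreM.Deg19.Loc) :
    Num (charDegrees MG) 808017424794512875886459904961710757005754368000000000 (okDeg 196883 [(71, 35)]) := by
  have hfin : Finite MG := BpSpor.MBigModel.finite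
  obtain ⟨x, hx⟩ := Cfsg.Agent.H455.OreM.Deg19.exists_order (r := 71) (by norm_num) (by norm_num)
  obtain ⟨f⟩ := Cfsg.Agent.MonsterP.Equiv.equiv
  have hmin : H511.Ore.MinDeg MG 196883 := fun χ hχ => (H642.Mono.minDeg_m.congr f).le χ χ.2 hχ
  exact num_of H606.OreM.not_comm_MG (by norm_num) card_M hmin hx (L.c71 x hx) 35 2 (by decide +kernel)

theorem num_m (B : H940.Eng.Base) {X : Type v} [Group X] (h : Spor.IsoM X) :
    Num (charDegrees X) 808017424794512875886459904961710757005754368000000000 (okDeg 196883 [(71, 35)]) := by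
  obtain ⟨e⟩ := h
  obtain ⟨f⟩ := Cfsg.Agent.MonsterP.Equiv.equiv
  exact num_congr (e.trans f) (num_m_model (Cfsg.Agent.H455.OreM.Deg19.loc B))

end Cfsg.Agent.H204.S8
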