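import Cfsg.Agent.H450.S8.Core
import Cfsg.Agent.H531.MB.SieveB
import Cfsg.Agent.H133.Ore.Tools

/-!
# Numerical descriptions of degree sets (helper204, for S4908)

`num_of` : divisibility, the minimal degree and the residues modulo one prime `p` with `|C(x)| = p`.
-/

set_option autoImplicit false

namespace Cfsg.Agent.H204.S8

open Cfsg Subgroup
open Cfsg.Agent.H653.Sieve (numOK)
open Cfsg.Agent.H511.Ore (MinDeg)
open Cfsg.Agent.H450.S8 (Num okDeg)

universe v

theorem num_of {X : Type v} [Group X] [Finite X] [IsSimpleGroup X] (hG : ¬ IsMulCommutative X) {N m p : ℕ}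
    (hp : p.Prime) (hN : Nat.card X = N) (hmin : MinDeg X m) {x : X} (hx : orderOf x = p)
    (hc : Nat.card (centralizer ({x} : Set X)) = p) (e t : ℕ)
    (hnum : numOK N p 1 e t [(0, 0), (1, (t : ℤ)), (p - 1, -(t : ℤ)), (e, -1), (p - e, 1)] 0 false = true) :
    Num (charDegrees X) N (okDeg m [(p, e)]) where
  pos := by rw [← hN]; exact Nat.card_pos
  dvd hd := by rw [← hN]; exact H424.DegTools.dvd_card hd
  ok := by
    rintro _ ⟨χ, rfl⟩
    have h1 := H531.MB.residue hG hp hN hx (k := 1) (by rw [hc, mul_one]) e t _ hnum χ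
    have h2 : charDegree (χ : X → ℂ) = 1 ∨ m ≤ charDegree (χ : X → ℂ) := by
      by_cases h : (χ : X → ℂ) = 1
      · left
        unfold charDegree
        rw [h]
        simp
      · exact Or.inr (hmin χ h)
    simp only [List.map_cons, List.map_nil, List.mem_cons, List.not_mem_nil, or_false] at h1
    simp only [okDeg, List.all_cons, List.all_nil, Bool.and_true, Bool.and_eq_true, Bool.or_eq_true, beq_iff_eq,
      decide_eq_true_eq, List.contains_eq_mem, List.mem_cons, List.not_mem_nil, or_false]
    exact ⟨h2, h1⟩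

/-- transport -/
theorem num_congr {X Y : Type*} [Group X] [Group Y] (e : X ≃* Y) {N : ℕ} {P : ℕ → Bool}
    (h : Num (charDegrees Y) N P) : Num (charDegrees X) N P := by
  rw [H424.DegTools.charDegrees_congr e]
  exact h

end Cfsg.Agent.H204.S8
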