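import Cfsg.Agent.H204.S8.NumB
import Cfsg.Agent.H450.S8.Soc2
import Cfsg.Agent.H58.S8.Iso

/-!
# SOC2 of the Baby Monster for S4908 (helper204)
-/

set_option autoImplicit false

namespace Cfsg.Agent.H204.S8.B

open Cfsg Cfsg.Agent.H450.S8

universe u v

theorem test : soc2Test 4154781481226426191177580544000000
    (P1 4154781481226426191177580544000000 (okDeg 4371 [(47, 23)]))
    [(2, 41), (3, 13), (5, 6), (7, 2), (11, 1), (13, 1), (17, 1), (19, 1), (23, 1), (31, 1), (47, 1)] = true := by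
  decide +kernel

theorem soc2_iso {X : Type v} [Group X] [Finite X] [IsSimpleGroup X] (hX : Spor.IsoB X) {D : Set ℕ}
    (hD : H704.S8.Deg 1 X D) : H704.S8.Soc2.{u} D :=
  soc2_one (num_b hX) (by simp; norm_num) test hD

theorem soc2 {X : Type v} [Group X] [Finite X] (hX : IsB X) {D : Set ℕ} (hD : H704.S8.Deg 1 X D) :
    H704.S8.Soc2.{u} D :=
  have hs : IsSimpleGroup X := hX.1
  soc2_iso (H58.S8.iso_b hX) hD

end Cfsg.Agent.H204.S8.B
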